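import Cfsg.Agent.H0.TC
set_option maxRecDepth 100000
namespace H0.TCU331
open H0
noncomputable def r0 : TC.WTr := (.node (.node (.node (.node (.node (.node (.leaf [0] 0 0 false) (.leaf [3, 3, 2, 0, 1, 3] 11 1 true)) (.leaf [2] 1 0 false)) (.node (.node (.leaf [3, 0, 3, 3, 0, 1] 13 4 true) (.leaf [1, 4, 1, 4, 1] 12 0 true)) (.leaf [1] 1 1 false))) (.node (.node (.node (.leaf [2, 4, 2, 2] 7 2 false) (.leaf [3] 3 1 false)) (.leaf [2, 0, 2, 4] 7 0 false)) (.node (.node (.leaf [3, 1, 0, 1] 7 4 true) (.leaf [3] 3 1 false)) (.leaf [1, 0, 1, 1] 7 0 true)))) (.node (.node (.node (.node (.leaf [2, 0, 4, 4, 0, 4] 13 2 false) (.leaf [4] 3 0 false)) (.leaf [1] 1 1 false)) (.node (.node (.leaf [1, 3, 1, 0] 7 3 true) (.leaf [3] 3 1 false)) (.leaf [1] 1 1 false))) (.node (.node (.node (.leaf [1, 1, 3, 1] 7 2 true) (.leaf [0, 2, 0, 4, 4, 0] 13 1 false)) (.leaf [0, 4, 4, 0, 4, 0] 13 3 false)) (.node (.leaf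 [0, 1, 1, 3] 7 1 true) (.leaf [0, 3, 3, 0, 1, 0] 13 5 true))))) (.node (.node (.node (.node (.node (.leaf [1, 4, 4, 4, 4, 2] 11 1 false) (.leaf [4] 3 0 false)) (.leaf [2] 1 0 false)) (.node (.node (.leaf [2] 1 0 false) (.leaf [3] 3 1 false)) (.leaf [1] 1 1 false))) (.node (.node (.node (.leaf [1, 0, 3, 0, 3, 3] 13 2 true) (.leaf [4, 0, 4, 0, 2, 0] 13 5 false)) (.leaf [4, 2, 2, 0] 7 3 false)) (.node (.leaf [4, 4, 4, 4, 2, 0] 11 2 false) (.leaf [3, 2, 0, 1, 3, 3] 11 2 true)))) (.node (.node (.node (.node (.leaf [3, 3, 0, 1, 0, 3] 13 6 true) (.leaf [4] 3 0 false)) (.leaf [3, 2, 3, 2, 3] 12 0 false)) (.node (.node (.leaf [4, 1, 4, 1, 4] 12 1 true) (.leaf [3] 3 1 false)) (.leaf [4] 3 0 false))) (.node (.node (.node (.leaf [1, 3, 3, 3, 3, 2] 11 5 true) (.leaf [4, 4, 2, 0, 1, 4] 11 4 false)) (.leaf [1] 1 1 false)) (.node (.leaf [2] 1 0 false) (.leaf [3, 3, 3, 2, 0, 1] 11 0 true))))))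
noncomputable def tS : Tr := (.leaf (nat_lit 0xffde47846055a00ffda4801ab5605effc413ad8647dbcffd87101c77894fffe0041c3f724d0ffc3e2556a4d907ffd240f57838123ffd0b2ac3d238eeffd394e5790f0fcffc3b24d41548c3ffd20481520ecc7ffc72724792183bffcb70e9704e56dffc3a6b15925885ffcb3078556b5adffc1e1a45b56576ffc68074de1dce8ffcd01581d19d20ffc89199071501dffc65070b519055ffc1c258633f4b3ffc751886107060ffc5f1781c1e073ffc421047400039ffc401d0000fc3effc3d0f03b0e800ffc000001e0741c))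
noncomputable def tJ : Tr := (.leaf (nat_lit 0x2041a38002041e40e5150303d1022001c0640a2045300d0202004d3010000e440b201010230b1001030b300c02140c0000300b20740b0130300c3002001c00000001c300a00240a000310000a02000a0010000a12001a00000000a0099000))
noncomputable def tQ : Tr := (.leaf (nat_lit 0x0))
noncomputable def tR : TC.WTr := r0
def hl : List ℕ := [3, 4, 4, 3]
def B : List (List ℕ) := [[0, 0], [1, 2], [2, 1], [3, 4], [4, 3], [3, 3, 3, 3, 3, 3, 3, 3], [1, 1, 1, 1, 1, 1, 1, 1], [2, 2, 0, 2, 4], [0, 1, 0, 1, 0, 1, 0, 1, 0, 1, 0, 1, 0, 1, 0, 1], [0, 1, 0, 2, 0, 1, 0, 2, 0, 1, 0, 2], [0, 2, 0, 2, 0, 2, 0, 2, 0, 2, 0, 2, 0, 2, 0, 2], [2, 0, 1, 4, 4, 4, 4], [2, 3, 2, 3, 2, 3], [0, 4, 0, 2, 0, 4, 4]]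
def subs : List (List ℕ) := [[3], [4]]
def ex : List (List ℕ) := []
def inv (x : ℕ) : ℕ := [0, 2, 1, 4, 3].getD x 0
noncomputable def rS : ℕ → ℕ := rowOf tS (nat_lit 8) (nat_lit 255) (nat_lit 60) (nat_lit 1152921504606846975)
noncomputable def rJ : ℕ → ℕ := rowOf tJ (nat_lit 8) (nat_lit 255) (nat_lit 28) (nat_lit 268435455)
noncomputable def C : TC.Cfg where
  S := look rS (nat_lit 10) (nat_lit 1023)
  J := look rJ (nat_lit 4) (nat_lit 15)
  Q := lookQ tQ (nat_lit 8) (nat_lit 1) (nat_lit 1)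
  R := tR.get
  hl := fun x => hl.contains x
  n := (nat_lit 27)
  M := (nat_lit 27)
  top := (nat_lit 513)
  nl := (nat_lit 5)
  need := (nat_lit 5)
  nr := (nat_lit 9)
theorem k0 : TC.chkRange C 0 1 = true := by decide +kernel
theorem rows0 : ∀ c < (0 + 1) * 64, c < C.M → TC.chkRow C c = true :=
  TC.rows_step (TC.rows_zero C) k0
theorem main {G : Type*} [Group G] (g : ℕ → G) (hB : ∀ r ∈ B, ev g r = 1) (H : Subgroup G)
    (hH : ∀ w ∈ subs, ev g w ∈ H) :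
    H.relIndex (Subgroup.closure (g '' {x | x < 5})) ≠ 0 ∧
      H.relIndex (Subgroup.closure (g '' {x | x < 5})) ≤ 27 :=
  TC.index_le C B subs ex inv hl tR.hint rfl (by decide +kernel) (by decide +kernel)
    (TC.rows_done rows0 (by decide +kernel)) g hB H hH
end H0.TCU331
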